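import Groth.Agent.KFlatLib.Scheme.Pullback
import Groth.Agent.KFlatLib.Scheme.Exact
import Groth.Agent.KFlatLib.Perfect.FiniteType
import Groth.Agent.EGA41Lib.LeftInv
import Groth.Agent.FDescent.StalkFinite
import Groth.Agent.MeroX.GenericVals
import Groth.Agent.ConsPropLib.FibreLocFree
import Groth.Agent.FPEnough.Descend
import Groth.Agent.QCoh16.SerreFree
import Mathlib

/-!
# Universally injective maps into a locally free module
-/

set_option autoImplicit false
set_option linter.style.haveILetI false
set_option backward.isDefEq.respectTransparency false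
set_option backward.isDefEq.respectTransparency.types false

universe u

open CategoryTheory CategoryTheory.Limits AlgebraicGeometry

namespace Groth.Agent.UnivMono

variable {X : Scheme.{u}} {U E : X.Modules}

/-- A map is split injective at every stalk. -/
def SplitStalks (ι : U ⟶ E) : Prop := ∀ x : X, IsSplitMono ((DerSch.stalkFunctor X x).map ι)

theorem mono_of_splitStalks (ι : U ⟶ E) (h : SplitStalks ι) : Mono ι := by
  refine Preadditive.mono_of_kernel_zero ?_
  refine (KFlatLib.isZero_of_stalk (kernel ι) fun x => ?_).eq_of_src _ _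
  let F := DerSch.stalkFunctor X x
  haveI := h x
  have h0 : F.map (kernel.ι ι) = 0 := (cancel_mono (F.map ι)).1 (by
    rw [← F.map_comp, kernel.condition, F.map_zero, zero_comp])
  haveI : Mono (F.map (kernel.ι ι)) := inferInstance
  exact (IsZero.iff_id_eq_zero _).2 ((cancel_mono (F.map (kernel.ι ι))).1 (by rw [h0, comp_zero, comp_zero]))

theorem mono_stalk {Y : Scheme.{u}} {A B : Y.Modules} (g : A ⟶ B) [Mono g] (y : Y) :
    Mono ((DerSch.stalkFunctor Y y).map g) :=
  Functor.map_mono _ _

theorem mono_sandwich {C : Type*} [Category C] {A B A' B' : C} (a : A' ≅ A) (g : A ⟶ B) (hg : Mono g) (b : B ≅ B') :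
    Mono (a.hom ≫ g ≫ b.hom) :=
  inferInstance

theorem splitStalks_pullback (ι : U ⟶ E) (h : SplitStalks ι) {T : Scheme.{u}} (f : T ⟶ X) :
    SplitStalks ((Scheme.Modules.pullback f).map ι) := by
  intro t
  haveI := h (f.base t)
  let Φ := DerSch.stalkFunctor X (f.base t) ⋙ ModuleCat.extendScalars (f.stalkMap t).hom
  let η := KFlatLib.stalkPullbackIso f t
  haveI : IsSplitMono (Φ.map ι) := inferInstanceAs (IsSplitMono ((ModuleCat.extendScalars (f.stalkMap t).hom).map _))
  have : (DerSch.stalkFunctor T t).map ((Scheme.Modules.pullback f).map ι) = η.hom.app U ≫ Φ.map ι ≫ η.inv.app E := by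
    rw [← Category.assoc, ← η.hom.naturality ι, Category.assoc, Iso.hom_inv_id_app, Category.comp_id]
    rfl
  rw [this]
  infer_instance

theorem splitStalks_of_iso {U' E' : X.Modules} (ι : U ⟶ E) (ι' : U' ⟶ E') (e : U ≅ U') (e' : E ≅ E')
    (w : ι ≫ e'.hom = e.hom ≫ ι') (h : SplitStalks ι) : SplitStalks ι' := by
  intro x
  haveI := h x
  have : ι' = e.inv ≫ ι ≫ e'.hom := by rw [w, Iso.inv_hom_id_assoc]
  rw [this, Functor.map_comp, Functor.map_comp]
  infer_instance

theorem splitStalks_restrict (ι : U ⟶ E) (h : SplitStalks ι) {W : Scheme.{u}} (j : W ⟶ X) [IsOpenImmersion j] :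
    SplitStalks ((Scheme.Modules.restrictFunctor j).map ι) := by
  let e := Scheme.Modules.restrictFunctorIsoPullback j
  exact splitStalks_of_iso _ _ (e.symm.app U) (e.symm.app E) (e.inv.naturality ι) (splitStalks_pullback ι h j)

/-- The cokernel of a stalkwise split map into a module with free stalks has free stalks. -/
theorem free_stalk_cokernel (ι : U ⟶ E) (h : SplitStalks ι) (hE : FlatMod.IsFinLocFree E) (x : X) :
    Module.Free (X.presheaf.stalk x) ((cokernel ι).presheaf.stalk x) := by
  let F := DerSch.stalkFunctor X x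
  haveI := h x
  let r := retraction (F.map ι)
  let s : cokernel (F.map ι) ⟶ F.obj E := cokernel.desc _ (𝟙 _ - r ≫ F.map ι) (by
    rw [Preadditive.comp_sub, Category.comp_id, IsSplitMono.id_assoc, sub_self])
  have hs : s ≫ cokernel.π (F.map ι) = 𝟙 _ := by
    refine (cancel_epi (cokernel.π (F.map ι))).1 ?_
    rw [cokernel.π_desc_assoc, Preadditive.sub_comp, Category.id_comp, Category.assoc, cokernel.condition,
      comp_zero, sub_zero, Category.comp_id]
  haveI : Module.Free (X.presheaf.stalk x) (E.presheaf.stalk x) := QCoh.free_stalk_of_isFinLocFree hE x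
  haveI : Module.Finite (X.presheaf.stalk x) (E.presheaf.stalk x) :=
    QCoh.finite_stalk_of_isFT (QCoh.isQCoh_of_isFinLocFree hE) (QCoh.isFT_of_isFP (QCoh.isFP_of_isFinLocFree hE)) x
  let e : F.obj (cokernel ι) ≅ cokernel (F.map ι) := PreservesCokernel.iso F ι
  let g : F.obj (cokernel ι) ⟶ F.obj E := e.hom ≫ s
  let g' : F.obj E ⟶ F.obj (cokernel ι) := cokernel.π (F.map ι) ≫ e.inv
  have hg : g ≫ g' = 𝟙 _ := by rw [Category.assoc, reassoc_of% hs, Iso.hom_inv_id]
  have hl : g'.hom ∘ₗ g.hom = LinearMap.id := congrArg ModuleCat.Hom.hom hg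
  haveI : Module.Projective (X.presheaf.stalk x) (F.obj (cokernel ι)) :=
    Module.Projective.of_split (M := E.presheaf.stalk x) g.hom g'.hom hl
  haveI : Module.Finite (X.presheaf.stalk x) (F.obj (cokernel ι)) :=
    Module.Finite.of_surjective (M := E.presheaf.stalk x) g'.hom fun z => ⟨g.hom z, LinearMap.congr_fun hl z⟩
  exact (Module.free_of_flat_of_isLocalRing : Module.Free (X.presheaf.stalk x) (F.obj (cokernel ι)))

theorem isFinLocFree_cokernel (ι : U ⟶ E) (h : SplitStalks ι) (hU : CohB1.IsFT U) (hE : FlatMod.IsFinLocFree E) :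
    FlatMod.IsFinLocFree (cokernel ι) := by
  choose W n p hx hp using fun x => KFlatLib.exists_epi_free_of_isFT hU x
  refine ConsPropLib.isFinLocFree_of_cover (fun x => (W x).ι)
    (fun x => ⟨x, by rw [Scheme.Opens.range_ι]; exact hx x⟩) fun x => ?_
  haveI := hp x
  let R := Scheme.Modules.restrictFunctor (W x).ι
  haveI : R.IsLeftAdjoint := Functor.isLeftAdjoint_of_iso (Scheme.Modules.restrictFunctorIsoPullback (W x).ι).symm
  haveI : PreservesColimitsOfSize.{0, 0} R := inferInstance
  have hEW := ConsPropLib.isFinLocFree_restrict (W x).ι hE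
  have hfree := free_stalk_cokernel (R.map ι) (splitStalks_restrict ι h (W x).ι) hEW
  let e : R.obj (cokernel ι) ≅ cokernel (R.map ι) := PreservesCokernel.iso R ι
  refine (ConsPropLib.isFinLocFree_iso e).2 (QCoh.isFinLocFree_iff.2 ⟨?_, hfree⟩)
  have hfp : CohB1.IsFP (cokernel (p x ≫ R.map ι)) := by
    have hfr : FlatMod.IsFinLocFree (FlatMod.freeMod (W x : Scheme.{u}) (n x)) := fun y =>
      ⟨⊤, n x, trivial, ⟨QCoh.freeModRestrict _ (n x)⟩⟩
    exact FPEnough.isFP_cokernel (QCoh.isQCoh_of_isFinLocFree hfr) (QCoh.isFT_of_isFP (QCoh.isFP_of_isFinLocFree hfr))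
      (QCoh.isQCoh_of_isFinLocFree hEW) (QCoh.isFP_of_isFinLocFree hEW) _
  exact (SheafOfModules.isFinitePresentation (W x : Scheme.{u}).ringCatSheaf).prop_of_iso (cokernelEpiComp (p x) (R.map ι)) hfp

theorem splitStalks_of_mono (ι : U ⟶ E) [Mono ι] (hC : FlatMod.IsFinLocFree (cokernel ι)) : SplitStalks ι := by
  intro x
  let F := DerSch.stalkFunctor X x
  have hS : (ShortComplex.mk ι (cokernel.π ι) (cokernel.condition ι)).ShortExact :=
    { exact := ShortComplex.exact_cokernel ι, mono_f := inferInstance, epi_g := inferInstance }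
  have hS' := hS.map_of_exact F
  haveI : Module.Free (X.presheaf.stalk x) ((cokernel ι).presheaf.stalk x) := QCoh.free_stalk_of_isFinLocFree hC x
  haveI : Projective ((ShortComplex.mk ι (cokernel.π ι) (cokernel.condition ι)).map F).X₃ :=
    (IsProjective.iff_projective ((cokernel ι).presheaf.stalk x)).1 inferInstance
  let σ := hS'.splittingOfProjective
  exact IsSplitMono.mk' ⟨σ.r, σ.f_r⟩

/-- Injectivity after base change to a field mapping from a local ring descends to the residue field. -/
theorem injective_residue {A K M N : Type u} [CommRing A] [IsLocalRing A] [CommRing K] [Algebra A K]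
    (hK : IsField K) [IsLocalHom (algebraMap A K)] [AddCommGroup M] [Module A M] [AddCommGroup N] [Module A N]
    (u : M →ₗ[A] N) (h : Function.Injective (u.baseChange K)) (m : Ideal A) [m.IsMaximal] :
    Function.Injective (u.lTensor m.ResidueField) := by
  letI := hK.toField
  have hm : m = IsLocalRing.maximalIdeal A := IsLocalRing.eq_maximalIdeal ‹_›
  have hker : m ≤ RingHom.ker (Algebra.ofId A K) := fun a ha => by
    by_contra hne
    have : IsUnit (algebraMap A K a) := isUnit_iff_ne_zero.2 hne
    exact (IsLocalRing.mem_maximalIdeal a).1 (hm ▸ ha) (IsUnit.of_map (algebraMap A K) a this)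
  have hunit : m.primeCompl ≤ (IsUnit.submonoid K).comap (Algebra.ofId A K) := fun a ha =>
    (IsUnit.map (algebraMap A K) (by
      by_contra hu
      exact ha (hm ▸ (IsLocalRing.mem_maximalIdeal a).2 hu)))
  let φ : m.ResidueField →ₐ[A] K := Ideal.ResidueField.liftₐ m (Algebra.ofId A K) hker hunit
  letI : Algebra m.ResidueField K := φ.toRingHom.toAlgebra
  haveI : IsScalarTower A m.ResidueField K := IsScalarTower.of_algebraMap_eq' φ.comp_algebraMap.symm
  obtain ⟨π, hπ⟩ := LinearMap.exists_leftInverse_of_injective (Algebra.linearMap m.ResidueField K)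
    (LinearMap.ker_eq_bot.2 (algebraMap m.ResidueField K).injective)
  let ia : m.ResidueField →ₗ[A] K := (Algebra.linearMap m.ResidueField K).restrictScalars A
  have hπ' : π.restrictScalars A ∘ₗ ia = LinearMap.id := LinearMap.ext fun z => LinearMap.congr_fun hπ z
  have hia : ∀ (P : Type u) [AddCommGroup P] [Module A P], Function.Injective (ia.rTensor P) := fun P _ _ =>
    Function.LeftInverse.injective (g := (π.restrictScalars A).rTensor P) fun z => by
      rw [← LinearMap.comp_apply, ← LinearMap.rTensor_comp, hπ', LinearMap.rTensor_id, LinearMap.id_apply]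
  intro a b hab
  refine hia M (h ?_)
  have hsq : ∀ z, u.baseChange K (ia.rTensor M z) = ia.rTensor N (u.lTensor m.ResidueField z) := fun z => by
    induction z using TensorProduct.induction_on with
    | zero => simp
    | tmul c y => simp
    | add y z hy hz => simp [hy, hz]
  rw [hsq, hsq, hab]

theorem splitStalks_of_fibres (hU : CohB1.IsFT U) (hE : FlatMod.IsFinLocFree E) (ι : U ⟶ E)
    (h : ∀ s : X, Mono ((Scheme.Modules.pullback (X.fromSpecResidueField s)).map ι)) : SplitStalks ι := by
  suffices key : ∀ (s : X) (t : Spec (X.residueField s)),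
      IsSplitMono ((DerSch.stalkFunctor X ((X.fromSpecResidueField s).base t)).map ι) by
    intro s
    obtain ⟨t⟩ : Nonempty (Spec (X.residueField s)) := inferInstance
    have := key s t
    rwa [show (X.fromSpecResidueField s).base t = s from Scheme.fromSpecResidueField_apply s t] at this
  intro s t
  let f := X.fromSpecResidueField s
  haveI := h s
  have hfield : IsField ((Spec (X.residueField s)).presheaf.stalk t) :=
    MeroX.isField_stalk fun y _ => Subsingleton.elim _ _
  let η := KFlatLib.stalkPullbackIso f t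
  let G : ModuleCat.{u} _ ⥤ ModuleCat.{u} _ := ModuleCat.extendScalars.{u, u, u} (f.stalkMap t).hom
  let v := (DerSch.stalkFunctor X (f.base t)).map ι
  haveI : Mono (G.map v) := by
    have : G.map v = η.inv.app U ≫ (DerSch.stalkFunctor _ t).map ((Scheme.Modules.pullback f).map ι) ≫ η.hom.app E := by
      have := η.hom.naturality ι
      rw [Functor.comp_map, Functor.comp_map] at this
      rw [this, Iso.inv_hom_id_app_assoc]
    rw [this]
    exact mono_sandwich (η.app U).symm _ (mono_stalk ((Scheme.Modules.pullback f).map ι) t) (η.app E)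
  have hinj : Function.Injective (G.map v) := (ModuleCat.mono_iff_injective _).1 inferInstance
  letI : Algebra (X.presheaf.stalk (f.base t)) ((Spec (X.residueField s)).presheaf.stalk t) :=
    (f.stalkMap t).hom.toAlgebra
  haveI : IsLocalHom (algebraMap (X.presheaf.stalk (f.base t)) ((Spec (X.residueField s)).presheaf.stalk t)) :=
    inferInstanceAs (IsLocalHom (f.stalkMap t).hom)
  haveI := QCoh.free_stalk_of_isFinLocFree hE (f.base t)
  haveI : Module.Finite (X.presheaf.stalk (f.base t)) (U.presheaf.stalk (f.base t)) :=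
    FDescent.finite_stalk (hM := hU) U (f.base t)
  obtain ⟨w, hw⟩ := EGA41Lib.exists_leftInverse_of_forall_maximal
    (M := U.presheaf.stalk (f.base t)) (N := E.presheaf.stalk (f.base t)) v.hom
    fun m _ => injective_residue hfield v.hom (fun a b hab => hinj hab) m
  exact IsSplitMono.mk' ⟨ModuleCat.ofHom w, ModuleCat.hom_ext hw⟩

end Groth.Agent.UnivMono
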